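import Cfsg.Agent.Lib.OutPresented.Suz.Data

/-! Generated: the stabiliser chain. -/

set_option autoImplicit false
set_option maxRecDepth 20000
set_option linter.all false
set_option Elab.async false

namespace CfsgLib.OutPresented.Suz

open CfsgLib.SporRecognition.CosetCert

theorem eq5_c0 : allPow 1782 (fun x => Nat.beq ((U, Ui).1 x) (trace (([(U, Ui)] : List TPair).map Prod.fst) x)) 11 0 = true := by decide +kernel
theorem eq5 : allBelow 11 1782 (fun x => Nat.beq ((U, Ui).1 x) (trace (([(U, Ui)] : List TPair).map Prod.fst) x)) = true :=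
  allBelow_of_upto (hi := 2048)
    ((Upto.of_pow eq5_c0 (Nat.le_refl _)) : Upto _ _ 0 (0 + 2 ^ 11))
    (by decide) (by decide)
theorem inv5_c0 : allPow 1782 (invStep (U, Ui).1 (U, Ui).2 1782) 11 0 = true := by decide +kernel
theorem inv5 : allBelow 11 1782 (invStep (U, Ui).1 (U, Ui).2 1782) = true :=
  allBelow_of_upto (hi := 2048)
    ((Upto.of_pow inv5_c0 (Nat.le_refl _)) : Upto _ _ 0 (0 + 2 ^ 11))
    (by decide) (by decide)

theorem eq7_c0 : allPow 1782 (fun x => Nat.beq ((S, Si).1 x) (trace (([(S, Si)] : List TPair).map Prod.fst) x)) 11 0 = true := by decide +kernel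
theorem eq7 : allBelow 11 1782 (fun x => Nat.beq ((S, Si).1 x) (trace (([(S, Si)] : List TPair).map Prod.fst) x)) = true :=
  allBelow_of_upto (hi := 2048)
    ((Upto.of_pow eq7_c0 (Nat.le_refl _)) : Upto _ _ 0 (0 + 2 ^ 11))
    (by decide) (by decide)
theorem inv7_c0 : allPow 1782 (invStep (S, Si).1 (S, Si).2 1782) 11 0 = true := by decide +kernel
theorem inv7 : allBelow 11 1782 (invStep (S, Si).1 (S, Si).2 1782) = true :=
  allBelow_of_upto (hi := 2048)
    ((Upto.of_pow inv7_c0 (Nat.le_refl _)) : Upto _ _ 0 (0 + 2 ^ 11))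
    (by decide) (by decide)

theorem eq9_c0 : allPow 1782 (fun x => Nat.beq ((B9, B10).1 x) (trace (([(U, Ui), (W, W), (Ui, U), (Ui, U), (W, W), (U, Ui), (W, W), (U, Ui), (Ui, U), (Ui, U), (W, W), (U, Ui), (U, Ui), (W, W)] : List TPair).map Prod.fst) x)) 9 0 = true := by decide +kernel
theorem eq9_c1 : allPow 1782 (fun x => Nat.beq ((B9, B10).1 x) (trace (([(U, Ui), (W, W), (Ui, U), (Ui, U), (W, W), (U, Ui), (W, W), (U, Ui), (Ui, U), (Ui, U), (W, W), (U, Ui), (U, Ui), (W, W)] : List TPair).map Prod.fst) x)) 9 512 = true := by decide +kernel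
theorem eq9_c2 : allPow 1782 (fun x => Nat.beq ((B9, B10).1 x) (trace (([(U, Ui), (W, W), (Ui, U), (Ui, U), (W, W), (U, Ui), (W, W), (U, Ui), (Ui, U), (Ui, U), (W, W), (U, Ui), (U, Ui), (W, W)] : List TPair).map Prod.fst) x)) 9 1024 = true := by decide +kernel
theorem eq9_c3 : allPow 1782 (fun x => Nat.beq ((B9, B10).1 x) (trace (([(U, Ui), (W, W), (Ui, U), (Ui, U), (W, W), (U, Ui), (W, W), (U, Ui), (Ui, U), (Ui, U), (W, W), (U, Ui), (U, Ui), (W, W)] : List TPair).map Prod.fst) x)) 9 1536 = true := by decide +kernel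
theorem eq9 : allBelow 11 1782 (fun x => Nat.beq ((B9, B10).1 x) (trace (([(U, Ui), (W, W), (Ui, U), (Ui, U), (W, W), (U, Ui), (W, W), (U, Ui), (Ui, U), (Ui, U), (W, W), (U, Ui), (U, Ui), (W, W)] : List TPair).map Prod.fst) x)) = true :=
  allBelow_of_upto (hi := 2048)
    (Upto.trans (mid := 512) ((Upto.of_pow eq9_c0 (Nat.le_refl _)) : Upto _ _ 0 (0 + 2 ^ 9))
    (Upto.trans (mid := 1024) ((Upto.of_pow eq9_c1 (Nat.le_refl _)) : Upto _ _ 512 (512 + 2 ^ 9))
    (Upto.trans (mid := 1536) ((Upto.of_pow eq9_c2 (Nat.le_refl _)) : Upto _ _ 1024 (1024 + 2 ^ 9))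
    ((Upto.of_pow eq9_c3 (Nat.le_refl _)) : Upto _ _ 1536 (1536 + 2 ^ 9)))))
    (by decide) (by decide)
theorem inv9_c0 : allPow 1782 (invStep (B9, B10).1 (B9, B10).2 1782) 11 0 = true := by decide +kernel
theorem inv9 : allBelow 11 1782 (invStep (B9, B10).1 (B9, B10).2 1782) = true :=
  allBelow_of_upto (hi := 2048)
    ((Upto.of_pow inv9_c0 (Nat.le_refl _)) : Upto _ _ 0 (0 + 2 ^ 11))
    (by decide) (by decide)

theorem eq11_c0 : allPow 1782 (fun x => Nat.beq ((B11, B12).1 x) (trace (([(W, W), (S, Si), (U, Ui), (U, Ui), (U, Ui), (W, W), (Ui, U), (W, W), (S, Si), (B9, B10), (B9, B10), (W, W), (Ui, U), (W, W), (B10, B9), (Si, S), (Si, S), (Ui, U), (B10, B9)] : List TPair).map Prod.fst) x)) 9 0 = true := by decide +kernel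
theorem eq11_c1 : allPow 1782 (fun x => Nat.beq ((B11, B12).1 x) (trace (([(W, W), (S, Si), (U, Ui), (U, Ui), (U, Ui), (W, W), (Ui, U), (W, W), (S, Si), (B9, B10), (B9, B10), (W, W), (Ui, U), (W, W), (B10, B9), (Si, S), (Si, S), (Ui, U), (B10, B9)] : List TPair).map Prod.fst) x)) 9 512 = true := by decide +kernel
theorem eq11_c2 : allPow 1782 (fun x => Nat.beq ((B11, B12).1 x) (trace (([(W, W), (S, Si), (U, Ui), (U, Ui), (U, Ui), (W, W), (Ui, U), (W, W), (S, Si), (B9, B10), (B9, B10), (W, W), (Ui, U), (W, W), (B10, B9), (Si, S), (Si, S), (Ui, U), (B10, B9)] : List TPair).map Prod.fst) x)) 9 1024 = true := by decide +kernel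
theorem eq11_c3 : allPow 1782 (fun x => Nat.beq ((B11, B12).1 x) (trace (([(W, W), (S, Si), (U, Ui), (U, Ui), (U, Ui), (W, W), (Ui, U), (W, W), (S, Si), (B9, B10), (B9, B10), (W, W), (Ui, U), (W, W), (B10, B9), (Si, S), (Si, S), (Ui, U), (B10, B9)] : List TPair).map Prod.fst) x)) 9 1536 = true := by decide +kernel
theorem eq11 : allBelow 11 1782 (fun x => Nat.beq ((B11, B12).1 x) (trace (([(W, W), (S, Si), (U, Ui), (U, Ui), (U, Ui), (W, W), (Ui, U), (W, W), (S, Si), (B9, B10), (B9, B10), (W, W), (Ui, U), (W, W), (B10, B9), (Si, S), (Si, S), (Ui, U), (B10, B9)] : List TPair).map Prod.fst) x)) = true :=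
  allBelow_of_upto (hi := 2048)
    (Upto.trans (mid := 512) ((Upto.of_pow eq11_c0 (Nat.le_refl _)) : Upto _ _ 0 (0 + 2 ^ 9))
    (Upto.trans (mid := 1024) ((Upto.of_pow eq11_c1 (Nat.le_refl _)) : Upto _ _ 512 (512 + 2 ^ 9))
    (Upto.trans (mid := 1536) ((Upto.of_pow eq11_c2 (Nat.le_refl _)) : Upto _ _ 1024 (1024 + 2 ^ 9))
    ((Upto.of_pow eq11_c3 (Nat.le_refl _)) : Upto _ _ 1536 (1536 + 2 ^ 9)))))
    (by decide) (by decide)
theorem inv11_c0 : allPow 1782 (invStep (B11, B12).1 (B11, B12).2 1782) 11 0 = true := by decide +kernel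
theorem inv11 : allBelow 11 1782 (invStep (B11, B12).1 (B11, B12).2 1782) = true :=
  allBelow_of_upto (hi := 2048)
    ((Upto.of_pow inv11_c0 (Nat.le_refl _)) : Upto _ _ 0 (0 + 2 ^ 11))
    (by decide) (by decide)

theorem eq13_c0 : allPow 1782 (fun x => Nat.beq ((B13, B14).1 x) (trace (([(U, Ui), (S, Si), (W, W), (U, Ui), (W, W), (U, Ui), (W, W), (U, Ui), (B9, B10), (U, Ui), (W, W), (U, Ui), (W, W), (S, Si), (B11, B12), (Ui, U), (B11, B12), (B11, B12), (B11, B12), (B11, B12), (Si, S), (B12, B11)] : List TPair).map Prod.fst) x)) 9 0 = true := by decide +kernel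
theorem eq13_c1 : allPow 1782 (fun x => Nat.beq ((B13, B14).1 x) (trace (([(U, Ui), (S, Si), (W, W), (U, Ui), (W, W), (U, Ui), (W, W), (U, Ui), (B9, B10), (U, Ui), (W, W), (U, Ui), (W, W), (S, Si), (B11, B12), (Ui, U), (B11, B12), (B11, B12), (B11, B12), (B11, B12), (Si, S), (B12, B11)] : List TPair).map Prod.fst) x)) 9 512 = true := by decide +kernel
theorem eq13_c2 : allPow 1782 (fun x => Nat.beq ((B13, B14).1 x) (trace (([(U, Ui), (S, Si), (W, W), (U, Ui), (W, W), (U, Ui), (W, W), (U, Ui), (B9, B10), (U, Ui), (W, W), (U, Ui), (W, W), (S, Si), (B11, B12), (Ui, U), (B11, B12), (B11, B12), (B11, B12), (B11, B12), (Si, S), (B12, B11)] : List TPair).map Prod.fst) x)) 9 1024 = true := by decide +kernel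
theorem eq13_c3 : allPow 1782 (fun x => Nat.beq ((B13, B14).1 x) (trace (([(U, Ui), (S, Si), (W, W), (U, Ui), (W, W), (U, Ui), (W, W), (U, Ui), (B9, B10), (U, Ui), (W, W), (U, Ui), (W, W), (S, Si), (B11, B12), (Ui, U), (B11, B12), (B11, B12), (B11, B12), (B11, B12), (Si, S), (B12, B11)] : List TPair).map Prod.fst) x)) 9 1536 = true := by decide +kernel
theorem eq13 : allBelow 11 1782 (fun x => Nat.beq ((B13, B14).1 x) (trace (([(U, Ui), (S, Si), (W, W), (U, Ui), (W, W), (U, Ui), (W, W), (U, Ui), (B9, B10), (U, Ui), (W, W), (U, Ui), (W, W), (S, Si), (B11, B12), (Ui, U), (B11, B12), (B11, B12), (B11, B12), (B11, B12), (Si, S), (B12, B11)] : List TPair).map Prod.fst) x)) = true :=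
  allBelow_of_upto (hi := 2048)
    (Upto.trans (mid := 512) ((Upto.of_pow eq13_c0 (Nat.le_refl _)) : Upto _ _ 0 (0 + 2 ^ 9))
    (Upto.trans (mid := 1024) ((Upto.of_pow eq13_c1 (Nat.le_refl _)) : Upto _ _ 512 (512 + 2 ^ 9))
    (Upto.trans (mid := 1536) ((Upto.of_pow eq13_c2 (Nat.le_refl _)) : Upto _ _ 1024 (1024 + 2 ^ 9))
    ((Upto.of_pow eq13_c3 (Nat.le_refl _)) : Upto _ _ 1536 (1536 + 2 ^ 9)))))
    (by decide) (by decide)
theorem inv13_c0 : allPow 1782 (invStep (B13, B14).1 (B13, B14).2 1782) 11 0 = true := by decide +kernel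
theorem inv13 : allBelow 11 1782 (invStep (B13, B14).1 (B13, B14).2 1782) = true :=
  allBelow_of_upto (hi := 2048)
    ((Upto.of_pow inv13_c0 (Nat.le_refl _)) : Upto _ _ 0 (0 + 2 ^ 11))
    (by decide) (by decide)

theorem eq15_c0 : allPow 1782 (fun x => Nat.beq ((B15, B16).1 x) (trace (([(U, Ui), (U, Ui), (S, Si), (W, W), (W, W), (B14, B13), (B9, B10), (S, Si), (B11, B12), (B13, B14), (B11, B12)] : List TPair).map Prod.fst) x)) 9 0 = true := by decide +kernel
theorem eq15_c1 : allPow 1782 (fun x => Nat.beq ((B15, B16).1 x) (trace (([(U, Ui), (U, Ui), (S, Si), (W, W), (W, W), (B14, B13), (B9, B10), (S, Si), (B11, B12), (B13, B14), (B11, B12)] : List TPair).map Prod.fst) x)) 9 512 = true := by decide +kernel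
theorem eq15_c2 : allPow 1782 (fun x => Nat.beq ((B15, B16).1 x) (trace (([(U, Ui), (U, Ui), (S, Si), (W, W), (W, W), (B14, B13), (B9, B10), (S, Si), (B11, B12), (B13, B14), (B11, B12)] : List TPair).map Prod.fst) x)) 9 1024 = true := by decide +kernel
theorem eq15_c3 : allPow 1782 (fun x => Nat.beq ((B15, B16).1 x) (trace (([(U, Ui), (U, Ui), (S, Si), (W, W), (W, W), (B14, B13), (B9, B10), (S, Si), (B11, B12), (B13, B14), (B11, B12)] : List TPair).map Prod.fst) x)) 9 1536 = true := by decide +kernel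
theorem eq15 : allBelow 11 1782 (fun x => Nat.beq ((B15, B16).1 x) (trace (([(U, Ui), (U, Ui), (S, Si), (W, W), (W, W), (B14, B13), (B9, B10), (S, Si), (B11, B12), (B13, B14), (B11, B12)] : List TPair).map Prod.fst) x)) = true :=
  allBelow_of_upto (hi := 2048)
    (Upto.trans (mid := 512) ((Upto.of_pow eq15_c0 (Nat.le_refl _)) : Upto _ _ 0 (0 + 2 ^ 9))
    (Upto.trans (mid := 1024) ((Upto.of_pow eq15_c1 (Nat.le_refl _)) : Upto _ _ 512 (512 + 2 ^ 9))
    (Upto.trans (mid := 1536) ((Upto.of_pow eq15_c2 (Nat.le_refl _)) : Upto _ _ 1024 (1024 + 2 ^ 9))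
    ((Upto.of_pow eq15_c3 (Nat.le_refl _)) : Upto _ _ 1536 (1536 + 2 ^ 9)))))
    (by decide) (by decide)
theorem inv15_c0 : allPow 1782 (invStep (B15, B16).1 (B15, B16).2 1782) 11 0 = true := by decide +kernel
theorem inv15 : allBelow 11 1782 (invStep (B15, B16).1 (B15, B16).2 1782) = true :=
  allBelow_of_upto (hi := 2048)
    ((Upto.of_pow inv15_c0 (Nat.le_refl _)) : Upto _ _ 0 (0 + 2 ^ 11))
    (by decide) (by decide)

theorem orbOK0 : lev0.orbOK 1782 = true := by decide +kernel
theorem orbOK1 : lev1.orbOK 1782 = true := by decide +kernel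
theorem orbOK2 : lev2.orbOK 1782 = true := by decide +kernel
theorem orbOK3 : lev3.orbOK 1782 = true := by decide +kernel

theorem prod_eq : prodLen [lev0, lev1, lev2, lev3] = 448345497600 := by decide +kernel

variable {G : Type*} [Group G] {ψ : G →* Equiv.Perm (Fin 1782)}

theorem chain {H : Subgroup G} (h_U : Real ψ H [] (U, Ui)) (h_S : Real ψ H [] (S, Si))
    (h_W : Real ψ H [] (W, Wi)) : Chain ψ H [lev0, lev1, lev2, lev3] [] := by
  have h5 : Real ψ H [0] (U, Ui) := by
    refine Real.new (prev := []) (ps := [(U, Ui)]) ?_ eq5 inv5 (by decide +kernel)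
    simp only [List.forall_mem_cons, List.not_mem_nil, false_implies, implies_true, and_true]
    exact (h_U).drop
  have h7 : Real ψ H [0, 731] (S, Si) := by
    refine Real.new (prev := []) (ps := [(S, Si)]) ?_ eq7 inv7 (by decide +kernel)
    simp only [List.forall_mem_cons, List.not_mem_nil, false_implies, implies_true, and_true]
    exact (h_S).drop
  have h9 : Real ψ H [0] (B9, B10) := by
    refine Real.new (prev := []) (ps := [(U, Ui), (W, W), (Ui, U), (Ui, U), (W, W), (U, Ui), (W, W), (U, Ui), (Ui, U), (Ui, U), (W, W), (U, Ui), (U, Ui), (W, W)]) ?_ eq9 inv9 (by decide +kernel)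
    simp only [List.forall_mem_cons, List.not_mem_nil, false_implies, implies_true, and_true]
    exact ⟨(h_U).drop, (h_W).drop, (h_U.symm).drop, (h_U.symm).drop, (h_W).drop, (h_U).drop, (h_W).drop, (h_U).drop, (h_U.symm).drop, (h_U.symm).drop, (h_W).drop, (h_U).drop, (h_U).drop, (h_W).drop⟩
  have h11 : Real ψ H [0, 731] (B11, B12) := by
    refine Real.new (prev := []) (ps := [(W, W), (S, Si), (U, Ui), (U, Ui), (U, Ui), (W, W), (Ui, U), (W, W), (S, Si), (B9, B10), (B9, B10), (W, W), (Ui, U), (W, W), (B10, B9), (Si, S), (Si, S), (Ui, U), (B10, B9)]) ?_ eq11 inv11 (by decide +kernel)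
    simp only [List.forall_mem_cons, List.not_mem_nil, false_implies, implies_true, and_true]
    exact ⟨(h_W).drop, (h_S).drop, (h_U).drop, (h_U).drop, (h_U).drop, (h_W).drop, (h_U.symm).drop, (h_W).drop, (h_S).drop, (h9).drop, (h9).drop, (h_W).drop, (h_U.symm).drop, (h_W).drop, (h9.symm).drop, (h7.symm).drop, (h7.symm).drop, (h5.symm).drop, (h9.symm).drop⟩
  have h13 : Real ψ H [0, 731, 867] (B13, B14) := by
    refine Real.new (prev := []) (ps := [(U, Ui), (S, Si), (W, W), (U, Ui), (W, W), (U, Ui), (W, W), (U, Ui), (B9, B10), (U, Ui), (W, W), (U, Ui), (W, W), (S, Si), (B11, B12), (Ui, U), (B11, B12), (B11, B12), (B11, B12), (B11, B12), (Si, S), (B12, B11)]) ?_ eq13 inv13 (by decide +kernel)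
    simp only [List.forall_mem_cons, List.not_mem_nil, false_implies, implies_true, and_true]
    exact ⟨(h_U).drop, (h_S).drop, (h_W).drop, (h_U).drop, (h_W).drop, (h_U).drop, (h_W).drop, (h_U).drop, (h9).drop, (h_U).drop, (h_W).drop, (h_U).drop, (h_W).drop, (h7).drop, (h11).drop, (h5.symm).drop, (h11).drop, (h11).drop, (h11).drop, (h11).drop, (h7.symm).drop, (h11.symm).drop⟩
  have h15 : Real ψ H [0, 731, 867] (B15, B16) := by
    refine Real.new (prev := []) (ps := [(U, Ui), (U, Ui), (S, Si), (W, W), (W, W), (B14, B13), (B9, B10), (S, Si), (B11, B12), (B13, B14), (B11, B12)]) ?_ eq15 inv15 (by decide +kernel)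
    simp only [List.forall_mem_cons, List.not_mem_nil, false_implies, implies_true, and_true]
    exact ⟨(h_U).drop, (h_U).drop, (h_S).drop, (h_W).drop, (h_W).drop, (h13.symm).drop, (h9).drop, (h7).drop, (h11).drop, (h13).drop, (h11).drop⟩
  refine ⟨orbOK0, ?_, orbOK1, ?_, orbOK2, ?_, orbOK3, ?_, trivial⟩
  · simp only [show lev0.gens = [(U, Ui), (Ui, U), (S, Si), (Si, S), (W, W), (U, Ui), (Ui, U), (S, Si), (Si, S), (B9, B10), (B10, B9), (B11, B12), (B12, B11), (B13, B14), (B14, B13), (B15, B16), (B16, B15)] from rfl, List.forall_mem_cons, List.not_mem_nil, false_implies, implies_true, and_true]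
    exact ⟨h_U, h_U.symm, h_S, h_S.symm, h_W, (h5).weaken (by decide), (h5.symm).weaken (by decide), (h7).weaken (by decide), (h7.symm).weaken (by decide), (h9).weaken (by decide), (h9.symm).weaken (by decide), (h11).weaken (by decide), (h11.symm).weaken (by decide), (h13).weaken (by decide), (h13.symm).weaken (by decide), (h15).weaken (by decide), (h15.symm).weaken (by decide)⟩
  · simp only [show lev1.gens = [(U, Ui), (Ui, U), (S, Si), (Si, S), (B9, B10), (B10, B9), (B11, B12), (B12, B11), (B13, B14), (B14, B13), (B15, B16), (B16, B15)] from rfl, List.forall_mem_cons, List.not_mem_nil, false_implies, implies_true, and_true]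
    exact ⟨h5, h5.symm, (h7).weaken (by decide), (h7.symm).weaken (by decide), h9, h9.symm, (h11).weaken (by decide), (h11.symm).weaken (by decide), (h13).weaken (by decide), (h13.symm).weaken (by decide), (h15).weaken (by decide), (h15.symm).weaken (by decide)⟩
  · simp only [show lev2.gens = [(S, Si), (Si, S), (B11, B12), (B12, B11), (B13, B14), (B14, B13), (B15, B16), (B16, B15)] from rfl, List.forall_mem_cons, List.not_mem_nil, false_implies, implies_true, and_true]
    exact ⟨h7, h7.symm, h11, h11.symm, (h13).weaken (by decide), (h13.symm).weaken (by decide), (h15).weaken (by decide), (h15.symm).weaken (by decide)⟩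
  · simp only [show lev3.gens = [(B13, B14), (B14, B13), (B15, B16), (B16, B15)] from rfl, List.forall_mem_cons, List.not_mem_nil, false_implies, implies_true, and_true]
    exact ⟨h13, h13.symm, h15, h15.symm⟩

end CfsgLib.OutPresented.Suz
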