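import Cfsg.Agent.Lib.OutPresented.Suz.Data

/-! Generated: backtrack search C, the first level in slices. -/

set_option autoImplicit false
set_option maxRecDepth 20000
set_option linter.all false
set_option Elab.async false

namespace CfsgLib.OutPresented.Suz

theorem plan_C : planOK data.consC data.planC [] = true := by decide +kernel

/-- The search with the orbit of the first level replaced by a slice of it. -/
noncomputable def sliceC (l : List Nat) : Bool :=
  search data.consC data.base data.goodC
    (⟨{lev0 with orb := l}, none, [(0, 0)]⟩ :: data.planC.tail) (fun x => x) (fun x => x)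

theorem slice_append {cons : List TPair} {base : List Nat} {good : (Nat → Nat) → Bool} {ps : List Plan}
    {L : Level} {c : List (Nat × Nat)} {P Q : Nat → Nat} {a b : List Nat}
    (ha : search cons base good (⟨{L with orb := a}, none, c⟩ :: ps) P Q = true)
    (hb : search cons base good (⟨{L with orb := b}, none, c⟩ :: ps) P Q = true) :
    search cons base good (⟨{L with orb := a ++ b}, none, c⟩ :: ps) P Q = true :=
  allB_spec.2 fun x hx => (List.mem_append.1 hx).elim (allB_spec.1 ha x) (allB_spec.1 hb x)

theorem sliceC_append {a b : List Nat} (ha : sliceC a = true) (hb : sliceC b = true) :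
    sliceC (a ++ b) = true :=
  slice_append (L := lev0) ha hb

theorem sliceC_0 : sliceC orb0_0 = true := by decide +kernel

theorem sliceC_1 : sliceC orb0_1 = true := by decide +kernel

theorem sliceC_2 : sliceC orb0_2 = true := by decide +kernel

theorem sliceC_3 : sliceC orb0_3 = true := by decide +kernel

theorem sliceC_4 : sliceC orb0_4 = true := by decide +kernel

theorem sliceC_5 : sliceC orb0_5 = true := by decide +kernel

theorem sliceC_6 : sliceC orb0_6 = true := by decide +kernel

theorem sliceC_7 : sliceC orb0_7 = true := by decide +kernel

theorem sliceC_8 : sliceC orb0_8 = true := by decide +kernel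

theorem sliceC_9 : sliceC orb0_9 = true := by decide +kernel

theorem sliceC_10 : sliceC orb0_10 = true := by decide +kernel

theorem sliceC_11 : sliceC orb0_11 = true := by decide +kernel

theorem sliceC_12 : sliceC orb0_12 = true := by decide +kernel

theorem sliceC_13 : sliceC orb0_13 = true := by decide +kernel

theorem sliceC_14 : sliceC orb0_14 = true := by decide +kernel

theorem sliceC_15 : sliceC orb0_15 = true := by decide +kernel

theorem sliceC_16 : sliceC orb0_16 = true := by decide +kernel

theorem sliceC_17 : sliceC orb0_17 = true := by decide +kernel

theorem slices_C : sliceC orb0 = true :=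
  (sliceC_append (sliceC_append (sliceC_append (sliceC_append (sliceC_append (sliceC_append (sliceC_append (sliceC_append (sliceC_append (sliceC_append (sliceC_append (sliceC_append (sliceC_append (sliceC_append (sliceC_append (sliceC_append (sliceC_append sliceC_0 sliceC_1) sliceC_2) sliceC_3) sliceC_4) sliceC_5) sliceC_6) sliceC_7) sliceC_8) sliceC_9) sliceC_10) sliceC_11) sliceC_12) sliceC_13) sliceC_14) sliceC_15) sliceC_16) sliceC_17)

theorem search_C : search data.consC data.base data.goodC data.planC (fun x => x) (fun x => x) = true := by
  have hp : data.planC = ⟨{lev0 with orb := orb0}, none, [(0, 0)]⟩ :: data.planC.tail := rfl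
  rw [hp]
  exact slices_C

end CfsgLib.OutPresented.Suz
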