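import Cfsg.Agent.Lib.OutPresented.Suz.Data

/-! Generated: the tables are tables of elements of the presented group. -/

set_option autoImplicit false
set_option maxRecDepth 20000
set_option linter.all false
set_option Elab.async false

namespace CfsgLib.OutPresented.Suz

open CfsgLib.SporRecognition.CosetCert CfsgLib.SporRecognition.Cert.Suz1782

theorem eq_A7_c0 : allPow 1782 (fun x => Nat.beq ((A7, A7).1 x) (trace (([(T1, T1)] : List TPair).map Prod.fst) x)) 11 0 = true := by decide +kernel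
theorem eq_A7 : allBelow 11 1782 (fun x => Nat.beq ((A7, A7).1 x) (trace (([(T1, T1)] : List TPair).map Prod.fst) x)) = true :=
  allBelow_of_upto (hi := 2048)
    ((Upto.of_pow eq_A7_c0 (Nat.le_refl _)) : Upto _ _ 0 (0 + 2 ^ 11))
    (by decide) (by decide)
theorem inv_A7_c0 : allPow 1782 (invStep (A7, A7).1 (A7, A7).2 1782) 11 0 = true := by decide +kernel
theorem inv_A7 : allBelow 11 1782 (invStep (A7, A7).1 (A7, A7).2 1782) = true :=
  allBelow_of_upto (hi := 2048)
    ((Upto.of_pow inv_A7_c0 (Nat.le_refl _)) : Upto _ _ 0 (0 + 2 ^ 11))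
    (by decide) (by decide)

theorem eq_A8_c0 : allPow 1782 (fun x => Nat.beq ((A8, A8).1 x) (trace (([(T2, T2)] : List TPair).map Prod.fst) x)) 11 0 = true := by decide +kernel
theorem eq_A8 : allBelow 11 1782 (fun x => Nat.beq ((A8, A8).1 x) (trace (([(T2, T2)] : List TPair).map Prod.fst) x)) = true :=
  allBelow_of_upto (hi := 2048)
    ((Upto.of_pow eq_A8_c0 (Nat.le_refl _)) : Upto _ _ 0 (0 + 2 ^ 11))
    (by decide) (by decide)
theorem inv_A8_c0 : allPow 1782 (invStep (A8, A8).1 (A8, A8).2 1782) 11 0 = true := by decide +kernel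
theorem inv_A8 : allBelow 11 1782 (invStep (A8, A8).1 (A8, A8).2 1782) = true :=
  allBelow_of_upto (hi := 2048)
    ((Upto.of_pow inv_A8_c0 (Nat.le_refl _)) : Upto _ _ 0 (0 + 2 ^ 11))
    (by decide) (by decide)

theorem eq_A9_c0 : allPow 1782 (fun x => Nat.beq ((A9, A9).1 x) (trace (([(T3, T3)] : List TPair).map Prod.fst) x)) 11 0 = true := by decide +kernel
theorem eq_A9 : allBelow 11 1782 (fun x => Nat.beq ((A9, A9).1 x) (trace (([(T3, T3)] : List TPair).map Prod.fst) x)) = true :=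
  allBelow_of_upto (hi := 2048)
    ((Upto.of_pow eq_A9_c0 (Nat.le_refl _)) : Upto _ _ 0 (0 + 2 ^ 11))
    (by decide) (by decide)
theorem inv_A9_c0 : allPow 1782 (invStep (A9, A9).1 (A9, A9).2 1782) 11 0 = true := by decide +kernel
theorem inv_A9 : allBelow 11 1782 (invStep (A9, A9).1 (A9, A9).2 1782) = true :=
  allBelow_of_upto (hi := 2048)
    ((Upto.of_pow inv_A9_c0 (Nat.le_refl _)) : Upto _ _ 0 (0 + 2 ^ 11))
    (by decide) (by decide)

theorem eq_A10_c0 : allPow 1782 (fun x => Nat.beq ((A10, A10).1 x) (trace (([(T4, T4)] : List TPair).map Prod.fst) x)) 11 0 = true := by decide +kernel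
theorem eq_A10 : allBelow 11 1782 (fun x => Nat.beq ((A10, A10).1 x) (trace (([(T4, T4)] : List TPair).map Prod.fst) x)) = true :=
  allBelow_of_upto (hi := 2048)
    ((Upto.of_pow eq_A10_c0 (Nat.le_refl _)) : Upto _ _ 0 (0 + 2 ^ 11))
    (by decide) (by decide)
theorem inv_A10_c0 : allPow 1782 (invStep (A10, A10).1 (A10, A10).2 1782) 11 0 = true := by decide +kernel
theorem inv_A10 : allBelow 11 1782 (invStep (A10, A10).1 (A10, A10).2 1782) = true :=
  allBelow_of_upto (hi := 2048)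
    ((Upto.of_pow inv_A10_c0 (Nat.le_refl _)) : Upto _ _ 0 (0 + 2 ^ 11))
    (by decide) (by decide)

theorem eq_A11_c0 : allPow 1782 (fun x => Nat.beq ((A11, A12).1 x) (trace (([(T5, T5), (A9, A9), (A10, A10), (A9, A9)] : List TPair).map Prod.fst) x)) 11 0 = true := by decide +kernel
theorem eq_A11 : allBelow 11 1782 (fun x => Nat.beq ((A11, A12).1 x) (trace (([(T5, T5), (A9, A9), (A10, A10), (A9, A9)] : List TPair).map Prod.fst) x)) = true :=
  allBelow_of_upto (hi := 2048)
    ((Upto.of_pow eq_A11_c0 (Nat.le_refl _)) : Upto _ _ 0 (0 + 2 ^ 11))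
    (by decide) (by decide)
theorem inv_A11_c0 : allPow 1782 (invStep (A11, A12).1 (A11, A12).2 1782) 11 0 = true := by decide +kernel
theorem inv_A11 : allBelow 11 1782 (invStep (A11, A12).1 (A11, A12).2 1782) = true :=
  allBelow_of_upto (hi := 2048)
    ((Upto.of_pow inv_A11_c0 (Nat.le_refl _)) : Upto _ _ 0 (0 + 2 ^ 11))
    (by decide) (by decide)

theorem eq_A13_c0 : allPow 1782 (fun x => Nat.beq ((A13, A13).1 x) (trace (([(T6, T6)] : List TPair).map Prod.fst) x)) 11 0 = true := by decide +kernel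
theorem eq_A13 : allBelow 11 1782 (fun x => Nat.beq ((A13, A13).1 x) (trace (([(T6, T6)] : List TPair).map Prod.fst) x)) = true :=
  allBelow_of_upto (hi := 2048)
    ((Upto.of_pow eq_A13_c0 (Nat.le_refl _)) : Upto _ _ 0 (0 + 2 ^ 11))
    (by decide) (by decide)
theorem inv_A13_c0 : allPow 1782 (invStep (A13, A13).1 (A13, A13).2 1782) 11 0 = true := by decide +kernel
theorem inv_A13 : allBelow 11 1782 (invStep (A13, A13).1 (A13, A13).2 1782) = true :=
  allBelow_of_upto (hi := 2048)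
    ((Upto.of_pow inv_A13_c0 (Nat.le_refl _)) : Upto _ _ 0 (0 + 2 ^ 11))
    (by decide) (by decide)

theorem eq_A14_c0 : allPow 1782 (fun x => Nat.beq ((A14, A14).1 x) (trace (([(T2, T2), (T6, T6), (T1, T1), (T7, T7), (T4, T4), (T7, T7), (A7, A7), (A8, A8)] : List TPair).map Prod.fst) x)) 11 0 = true := by decide +kernel
theorem eq_A14 : allBelow 11 1782 (fun x => Nat.beq ((A14, A14).1 x) (trace (([(T2, T2), (T6, T6), (T1, T1), (T7, T7), (T4, T4), (T7, T7), (A7, A7), (A8, A8)] : List TPair).map Prod.fst) x)) = true :=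
  allBelow_of_upto (hi := 2048)
    ((Upto.of_pow eq_A14_c0 (Nat.le_refl _)) : Upto _ _ 0 (0 + 2 ^ 11))
    (by decide) (by decide)
theorem inv_A14_c0 : allPow 1782 (invStep (A14, A14).1 (A14, A14).2 1782) 11 0 = true := by decide +kernel
theorem inv_A14 : allBelow 11 1782 (invStep (A14, A14).1 (A14, A14).2 1782) = true :=
  allBelow_of_upto (hi := 2048)
    ((Upto.of_pow inv_A14_c0 (Nat.le_refl _)) : Upto _ _ 0 (0 + 2 ^ 11))
    (by decide) (by decide)

theorem eq_A15_c0 : allPow 1782 (fun x => Nat.beq ((A15, A16).1 x) (trace (([(T6, T6), (T1, T1), (T5, T5), (T2, T2), (T7, T7), (T4, T4), (T7, T7), (A10, A10), (A9, A9), (A8, A8), (A13, A13), (A7, A7), (A12, A11), (A14, A14), (A12, A11), (A14, A14), (A11, A12), (A14, A14), (A12, A11)] : List TPair).map Prod.fst) x)) 9 0 = true := by decide +kernel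
theorem eq_A15_c1 : allPow 1782 (fun x => Nat.beq ((A15, A16).1 x) (trace (([(T6, T6), (T1, T1), (T5, T5), (T2, T2), (T7, T7), (T4, T4), (T7, T7), (A10, A10), (A9, A9), (A8, A8), (A13, A13), (A7, A7), (A12, A11), (A14, A14), (A12, A11), (A14, A14), (A11, A12), (A14, A14), (A12, A11)] : List TPair).map Prod.fst) x)) 9 512 = true := by decide +kernel
theorem eq_A15_c2 : allPow 1782 (fun x => Nat.beq ((A15, A16).1 x) (trace (([(T6, T6), (T1, T1), (T5, T5), (T2, T2), (T7, T7), (T4, T4), (T7, T7), (A10, A10), (A9, A9), (A8, A8), (A13, A13), (A7, A7), (A12, A11), (A14, A14), (A12, A11), (A14, A14), (A11, A12), (A14, A14), (A12, A11)] : List TPair).map Prod.fst) x)) 9 1024 = true := by decide +kernel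
theorem eq_A15_c3 : allPow 1782 (fun x => Nat.beq ((A15, A16).1 x) (trace (([(T6, T6), (T1, T1), (T5, T5), (T2, T2), (T7, T7), (T4, T4), (T7, T7), (A10, A10), (A9, A9), (A8, A8), (A13, A13), (A7, A7), (A12, A11), (A14, A14), (A12, A11), (A14, A14), (A11, A12), (A14, A14), (A12, A11)] : List TPair).map Prod.fst) x)) 9 1536 = true := by decide +kernel
theorem eq_A15 : allBelow 11 1782 (fun x => Nat.beq ((A15, A16).1 x) (trace (([(T6, T6), (T1, T1), (T5, T5), (T2, T2), (T7, T7), (T4, T4), (T7, T7), (A10, A10), (A9, A9), (A8, A8), (A13, A13), (A7, A7), (A12, A11), (A14, A14), (A12, A11), (A14, A14), (A11, A12), (A14, A14), (A12, A11)] : List TPair).map Prod.fst) x)) = true :=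
  allBelow_of_upto (hi := 2048)
    (Upto.trans (mid := 512) ((Upto.of_pow eq_A15_c0 (Nat.le_refl _)) : Upto _ _ 0 (0 + 2 ^ 9))
    (Upto.trans (mid := 1024) ((Upto.of_pow eq_A15_c1 (Nat.le_refl _)) : Upto _ _ 512 (512 + 2 ^ 9))
    (Upto.trans (mid := 1536) ((Upto.of_pow eq_A15_c2 (Nat.le_refl _)) : Upto _ _ 1024 (1024 + 2 ^ 9))
    ((Upto.of_pow eq_A15_c3 (Nat.le_refl _)) : Upto _ _ 1536 (1536 + 2 ^ 9)))))
    (by decide) (by decide)
theorem inv_A15_c0 : allPow 1782 (invStep (A15, A16).1 (A15, A16).2 1782) 11 0 = true := by decide +kernel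
theorem inv_A15 : allBelow 11 1782 (invStep (A15, A16).1 (A15, A16).2 1782) = true :=
  allBelow_of_upto (hi := 2048)
    ((Upto.of_pow inv_A15_c0 (Nat.le_refl _)) : Upto _ _ 0 (0 + 2 ^ 11))
    (by decide) (by decide)

theorem eq_A17_c0 : allPow 1782 (fun x => Nat.beq ((A17, A18).1 x) (trace (([(T5, T5), (T1, T1), (T6, T6), (T7, T7), (T7, T7), (A8, A8), (A15, A16), (A8, A8)] : List TPair).map Prod.fst) x)) 11 0 = true := by decide +kernel
theorem eq_A17 : allBelow 11 1782 (fun x => Nat.beq ((A17, A18).1 x) (trace (([(T5, T5), (T1, T1), (T6, T6), (T7, T7), (T7, T7), (A8, A8), (A15, A16), (A8, A8)] : List TPair).map Prod.fst) x)) = true :=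
  allBelow_of_upto (hi := 2048)
    ((Upto.of_pow eq_A17_c0 (Nat.le_refl _)) : Upto _ _ 0 (0 + 2 ^ 11))
    (by decide) (by decide)
theorem inv_A17_c0 : allPow 1782 (invStep (A17, A18).1 (A17, A18).2 1782) 11 0 = true := by decide +kernel
theorem inv_A17 : allBelow 11 1782 (invStep (A17, A18).1 (A17, A18).2 1782) = true :=
  allBelow_of_upto (hi := 2048)
    ((Upto.of_pow inv_A17_c0 (Nat.le_refl _)) : Upto _ _ 0 (0 + 2 ^ 11))
    (by decide) (by decide)

theorem eq_A19_c0 : allPow 1782 (fun x => Nat.beq ((A19, A19).1 x) (trace (([(T3, T3), (T5, T5), (T5, T5), (T7, T7), (T7, T7), (T6, T6), (T4, T4), (T3, T3), (A13, A13), (A15, A16), (A10, A10), (A7, A7), (A17, A18), (A16, A15), (A11, A12)] : List TPair).map Prod.fst) x)) 9 0 = true := by decide +kernel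
theorem eq_A19_c1 : allPow 1782 (fun x => Nat.beq ((A19, A19).1 x) (trace (([(T3, T3), (T5, T5), (T5, T5), (T7, T7), (T7, T7), (T6, T6), (T4, T4), (T3, T3), (A13, A13), (A15, A16), (A10, A10), (A7, A7), (A17, A18), (A16, A15), (A11, A12)] : List TPair).map Prod.fst) x)) 9 512 = true := by decide +kernel
theorem eq_A19_c2 : allPow 1782 (fun x => Nat.beq ((A19, A19).1 x) (trace (([(T3, T3), (T5, T5), (T5, T5), (T7, T7), (T7, T7), (T6, T6), (T4, T4), (T3, T3), (A13, A13), (A15, A16), (A10, A10), (A7, A7), (A17, A18), (A16, A15), (A11, A12)] : List TPair).map Prod.fst) x)) 9 1024 = true := by decide +kernel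
theorem eq_A19_c3 : allPow 1782 (fun x => Nat.beq ((A19, A19).1 x) (trace (([(T3, T3), (T5, T5), (T5, T5), (T7, T7), (T7, T7), (T6, T6), (T4, T4), (T3, T3), (A13, A13), (A15, A16), (A10, A10), (A7, A7), (A17, A18), (A16, A15), (A11, A12)] : List TPair).map Prod.fst) x)) 9 1536 = true := by decide +kernel
theorem eq_A19 : allBelow 11 1782 (fun x => Nat.beq ((A19, A19).1 x) (trace (([(T3, T3), (T5, T5), (T5, T5), (T7, T7), (T7, T7), (T6, T6), (T4, T4), (T3, T3), (A13, A13), (A15, A16), (A10, A10), (A7, A7), (A17, A18), (A16, A15), (A11, A12)] : List TPair).map Prod.fst) x)) = true :=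
  allBelow_of_upto (hi := 2048)
    (Upto.trans (mid := 512) ((Upto.of_pow eq_A19_c0 (Nat.le_refl _)) : Upto _ _ 0 (0 + 2 ^ 9))
    (Upto.trans (mid := 1024) ((Upto.of_pow eq_A19_c1 (Nat.le_refl _)) : Upto _ _ 512 (512 + 2 ^ 9))
    (Upto.trans (mid := 1536) ((Upto.of_pow eq_A19_c2 (Nat.le_refl _)) : Upto _ _ 1024 (1024 + 2 ^ 9))
    ((Upto.of_pow eq_A19_c3 (Nat.le_refl _)) : Upto _ _ 1536 (1536 + 2 ^ 9)))))
    (by decide) (by decide)
theorem inv_A19_c0 : allPow 1782 (invStep (A19, A19).1 (A19, A19).2 1782) 11 0 = true := by decide +kernel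
theorem inv_A19 : allBelow 11 1782 (invStep (A19, A19).1 (A19, A19).2 1782) = true :=
  allBelow_of_upto (hi := 2048)
    ((Upto.of_pow inv_A19_c0 (Nat.le_refl _)) : Upto _ _ 0 (0 + 2 ^ 11))
    (by decide) (by decide)

theorem eq_A20_c0 : allPow 1782 (fun x => Nat.beq ((A20, A21).1 x) (trace (([(T3, T3), (T6, T6), (A19, A19), (A7, A7), (A18, A17), (A18, A17), (A16, A15), (A11, A12)] : List TPair).map Prod.fst) x)) 11 0 = true := by decide +kernel
theorem eq_A20 : allBelow 11 1782 (fun x => Nat.beq ((A20, A21).1 x) (trace (([(T3, T3), (T6, T6), (A19, A19), (A7, A7), (A18, A17), (A18, A17), (A16, A15), (A11, A12)] : List TPair).map Prod.fst) x)) = true :=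
  allBelow_of_upto (hi := 2048)
    ((Upto.of_pow eq_A20_c0 (Nat.le_refl _)) : Upto _ _ 0 (0 + 2 ^ 11))
    (by decide) (by decide)
theorem inv_A20_c0 : allPow 1782 (invStep (A20, A21).1 (A20, A21).2 1782) 11 0 = true := by decide +kernel
theorem inv_A20 : allBelow 11 1782 (invStep (A20, A21).1 (A20, A21).2 1782) = true :=
  allBelow_of_upto (hi := 2048)
    ((Upto.of_pow inv_A20_c0 (Nat.le_refl _)) : Upto _ _ 0 (0 + 2 ^ 11))
    (by decide) (by decide)

theorem eq_U_c0 : allPow 1782 (fun x => Nat.beq ((U, Ui).1 x) (trace (([(A15, A16), (A20, A21), (A15, A16), (A14, A14), (A11, A12), (A14, A14), (A17, A18), (A8, A8), (A9, A9), (A20, A21), (A11, A12)] : List TPair).map Prod.fst) x)) 9 0 = true := by decide +kernel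
theorem eq_U_c1 : allPow 1782 (fun x => Nat.beq ((U, Ui).1 x) (trace (([(A15, A16), (A20, A21), (A15, A16), (A14, A14), (A11, A12), (A14, A14), (A17, A18), (A8, A8), (A9, A9), (A20, A21), (A11, A12)] : List TPair).map Prod.fst) x)) 9 512 = true := by decide +kernel
theorem eq_U_c2 : allPow 1782 (fun x => Nat.beq ((U, Ui).1 x) (trace (([(A15, A16), (A20, A21), (A15, A16), (A14, A14), (A11, A12), (A14, A14), (A17, A18), (A8, A8), (A9, A9), (A20, A21), (A11, A12)] : List TPair).map Prod.fst) x)) 9 1024 = true := by decide +kernel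
theorem eq_U_c3 : allPow 1782 (fun x => Nat.beq ((U, Ui).1 x) (trace (([(A15, A16), (A20, A21), (A15, A16), (A14, A14), (A11, A12), (A14, A14), (A17, A18), (A8, A8), (A9, A9), (A20, A21), (A11, A12)] : List TPair).map Prod.fst) x)) 9 1536 = true := by decide +kernel
theorem eq_U : allBelow 11 1782 (fun x => Nat.beq ((U, Ui).1 x) (trace (([(A15, A16), (A20, A21), (A15, A16), (A14, A14), (A11, A12), (A14, A14), (A17, A18), (A8, A8), (A9, A9), (A20, A21), (A11, A12)] : List TPair).map Prod.fst) x)) = true :=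
  allBelow_of_upto (hi := 2048)
    (Upto.trans (mid := 512) ((Upto.of_pow eq_U_c0 (Nat.le_refl _)) : Upto _ _ 0 (0 + 2 ^ 9))
    (Upto.trans (mid := 1024) ((Upto.of_pow eq_U_c1 (Nat.le_refl _)) : Upto _ _ 512 (512 + 2 ^ 9))
    (Upto.trans (mid := 1536) ((Upto.of_pow eq_U_c2 (Nat.le_refl _)) : Upto _ _ 1024 (1024 + 2 ^ 9))
    ((Upto.of_pow eq_U_c3 (Nat.le_refl _)) : Upto _ _ 1536 (1536 + 2 ^ 9)))))
    (by decide) (by decide)
theorem inv_U_c0 : allPow 1782 (invStep (U, Ui).1 (U, Ui).2 1782) 11 0 = true := by decide +kernel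
theorem inv_U : allBelow 11 1782 (invStep (U, Ui).1 (U, Ui).2 1782) = true :=
  allBelow_of_upto (hi := 2048)
    ((Upto.of_pow inv_U_c0 (Nat.le_refl _)) : Upto _ _ 0 (0 + 2 ^ 11))
    (by decide) (by decide)

theorem eq_S_c0 : allPow 1782 (fun x => Nat.beq ((S, Si).1 x) (trace (([(A19, A19), (A21, A20), (A16, A15), (A21, A20), (A11, A12), (A15, A16), (A14, A14), (A18, A17), (A15, A16)] : List TPair).map Prod.fst) x)) 9 0 = true := by decide +kernel
theorem eq_S_c1 : allPow 1782 (fun x => Nat.beq ((S, Si).1 x) (trace (([(A19, A19), (A21, A20), (A16, A15), (A21, A20), (A11, A12), (A15, A16), (A14, A14), (A18, A17), (A15, A16)] : List TPair).map Prod.fst) x)) 9 512 = true := by decide +kernel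
theorem eq_S_c2 : allPow 1782 (fun x => Nat.beq ((S, Si).1 x) (trace (([(A19, A19), (A21, A20), (A16, A15), (A21, A20), (A11, A12), (A15, A16), (A14, A14), (A18, A17), (A15, A16)] : List TPair).map Prod.fst) x)) 9 1024 = true := by decide +kernel
theorem eq_S_c3 : allPow 1782 (fun x => Nat.beq ((S, Si).1 x) (trace (([(A19, A19), (A21, A20), (A16, A15), (A21, A20), (A11, A12), (A15, A16), (A14, A14), (A18, A17), (A15, A16)] : List TPair).map Prod.fst) x)) 9 1536 = true := by decide +kernel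
theorem eq_S : allBelow 11 1782 (fun x => Nat.beq ((S, Si).1 x) (trace (([(A19, A19), (A21, A20), (A16, A15), (A21, A20), (A11, A12), (A15, A16), (A14, A14), (A18, A17), (A15, A16)] : List TPair).map Prod.fst) x)) = true :=
  allBelow_of_upto (hi := 2048)
    (Upto.trans (mid := 512) ((Upto.of_pow eq_S_c0 (Nat.le_refl _)) : Upto _ _ 0 (0 + 2 ^ 9))
    (Upto.trans (mid := 1024) ((Upto.of_pow eq_S_c1 (Nat.le_refl _)) : Upto _ _ 512 (512 + 2 ^ 9))
    (Upto.trans (mid := 1536) ((Upto.of_pow eq_S_c2 (Nat.le_refl _)) : Upto _ _ 1024 (1024 + 2 ^ 9))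
    ((Upto.of_pow eq_S_c3 (Nat.le_refl _)) : Upto _ _ 1536 (1536 + 2 ^ 9)))))
    (by decide) (by decide)
theorem inv_S_c0 : allPow 1782 (invStep (S, Si).1 (S, Si).2 1782) 11 0 = true := by decide +kernel
theorem inv_S : allBelow 11 1782 (invStep (S, Si).1 (S, Si).2 1782) = true :=
  allBelow_of_upto (hi := 2048)
    ((Upto.of_pow inv_S_c0 (Nat.le_refl _)) : Upto _ _ 0 (0 + 2 ^ 11))
    (by decide) (by decide)

theorem eq_W_c0 : allPow 1782 (fun x => Nat.beq ((W, Wi).1 x) (trace (([(A20, A21), (A15, A16), (A20, A21), (A11, A12), (A16, A15), (A18, A17), (A18, A17), (A8, A8), (A21, A20), (A19, A19), (T7, T7), (T2, T2), (A18, A17), (T2, T2), (A14, A14), (T7, T7)] : List TPair).map Prod.fst) x)) 9 0 = true := by decide +kernel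
theorem eq_W_c1 : allPow 1782 (fun x => Nat.beq ((W, Wi).1 x) (trace (([(A20, A21), (A15, A16), (A20, A21), (A11, A12), (A16, A15), (A18, A17), (A18, A17), (A8, A8), (A21, A20), (A19, A19), (T7, T7), (T2, T2), (A18, A17), (T2, T2), (A14, A14), (T7, T7)] : List TPair).map Prod.fst) x)) 9 512 = true := by decide +kernel
theorem eq_W_c2 : allPow 1782 (fun x => Nat.beq ((W, Wi).1 x) (trace (([(A20, A21), (A15, A16), (A20, A21), (A11, A12), (A16, A15), (A18, A17), (A18, A17), (A8, A8), (A21, A20), (A19, A19), (T7, T7), (T2, T2), (A18, A17), (T2, T2), (A14, A14), (T7, T7)] : List TPair).map Prod.fst) x)) 9 1024 = true := by decide +kernel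
theorem eq_W_c3 : allPow 1782 (fun x => Nat.beq ((W, Wi).1 x) (trace (([(A20, A21), (A15, A16), (A20, A21), (A11, A12), (A16, A15), (A18, A17), (A18, A17), (A8, A8), (A21, A20), (A19, A19), (T7, T7), (T2, T2), (A18, A17), (T2, T2), (A14, A14), (T7, T7)] : List TPair).map Prod.fst) x)) 9 1536 = true := by decide +kernel
theorem eq_W : allBelow 11 1782 (fun x => Nat.beq ((W, Wi).1 x) (trace (([(A20, A21), (A15, A16), (A20, A21), (A11, A12), (A16, A15), (A18, A17), (A18, A17), (A8, A8), (A21, A20), (A19, A19), (T7, T7), (T2, T2), (A18, A17), (T2, T2), (A14, A14), (T7, T7)] : List TPair).map Prod.fst) x)) = true :=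
  allBelow_of_upto (hi := 2048)
    (Upto.trans (mid := 512) ((Upto.of_pow eq_W_c0 (Nat.le_refl _)) : Upto _ _ 0 (0 + 2 ^ 9))
    (Upto.trans (mid := 1024) ((Upto.of_pow eq_W_c1 (Nat.le_refl _)) : Upto _ _ 512 (512 + 2 ^ 9))
    (Upto.trans (mid := 1536) ((Upto.of_pow eq_W_c2 (Nat.le_refl _)) : Upto _ _ 1024 (1024 + 2 ^ 9))
    ((Upto.of_pow eq_W_c3 (Nat.le_refl _)) : Upto _ _ 1536 (1536 + 2 ^ 9)))))
    (by decide) (by decide)
theorem inv_W_c0 : allPow 1782 (invStep (W, Wi).1 (W, Wi).2 1782) 11 0 = true := by decide +kernel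
theorem inv_W : allBelow 11 1782 (invStep (W, Wi).1 (W, Wi).2 1782) = true :=
  allBelow_of_upto (hi := 2048)
    ((Upto.of_pow inv_W_c0 (Nat.le_refl _)) : Upto _ _ 0 (0 + 2 ^ 11))
    (by decide) (by decide)

theorem eq_W2_c0 : allPow 1782 (fun x => Nat.beq ((W2, W2i).1 x) (trace (([(A16, A15), (A20, A21), (A19, A19), (A20, A21), (A16, A15), (A18, A17), (A19, A19), (A17, A18), (A14, A14), (A8, A8), (A21, A20), (A19, A19), (T7, T7), (T2, T2), (A18, A17), (T2, T2), (A14, A14), (T7, T7)] : List TPair).map Prod.fst) x)) 9 0 = true := by decide +kernel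
theorem eq_W2_c1 : allPow 1782 (fun x => Nat.beq ((W2, W2i).1 x) (trace (([(A16, A15), (A20, A21), (A19, A19), (A20, A21), (A16, A15), (A18, A17), (A19, A19), (A17, A18), (A14, A14), (A8, A8), (A21, A20), (A19, A19), (T7, T7), (T2, T2), (A18, A17), (T2, T2), (A14, A14), (T7, T7)] : List TPair).map Prod.fst) x)) 9 512 = true := by decide +kernel
theorem eq_W2_c2 : allPow 1782 (fun x => Nat.beq ((W2, W2i).1 x) (trace (([(A16, A15), (A20, A21), (A19, A19), (A20, A21), (A16, A15), (A18, A17), (A19, A19), (A17, A18), (A14, A14), (A8, A8), (A21, A20), (A19, A19), (T7, T7), (T2, T2), (A18, A17), (T2, T2), (A14, A14), (T7, T7)] : List TPair).map Prod.fst) x)) 9 1024 = true := by decide +kernel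
theorem eq_W2_c3 : allPow 1782 (fun x => Nat.beq ((W2, W2i).1 x) (trace (([(A16, A15), (A20, A21), (A19, A19), (A20, A21), (A16, A15), (A18, A17), (A19, A19), (A17, A18), (A14, A14), (A8, A8), (A21, A20), (A19, A19), (T7, T7), (T2, T2), (A18, A17), (T2, T2), (A14, A14), (T7, T7)] : List TPair).map Prod.fst) x)) 9 1536 = true := by decide +kernel
theorem eq_W2 : allBelow 11 1782 (fun x => Nat.beq ((W2, W2i).1 x) (trace (([(A16, A15), (A20, A21), (A19, A19), (A20, A21), (A16, A15), (A18, A17), (A19, A19), (A17, A18), (A14, A14), (A8, A8), (A21, A20), (A19, A19), (T7, T7), (T2, T2), (A18, A17), (T2, T2), (A14, A14), (T7, T7)] : List TPair).map Prod.fst) x)) = true :=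
  allBelow_of_upto (hi := 2048)
    (Upto.trans (mid := 512) ((Upto.of_pow eq_W2_c0 (Nat.le_refl _)) : Upto _ _ 0 (0 + 2 ^ 9))
    (Upto.trans (mid := 1024) ((Upto.of_pow eq_W2_c1 (Nat.le_refl _)) : Upto _ _ 512 (512 + 2 ^ 9))
    (Upto.trans (mid := 1536) ((Upto.of_pow eq_W2_c2 (Nat.le_refl _)) : Upto _ _ 1024 (1024 + 2 ^ 9))
    ((Upto.of_pow eq_W2_c3 (Nat.le_refl _)) : Upto _ _ 1536 (1536 + 2 ^ 9)))))
    (by decide) (by decide)
theorem inv_W2_c0 : allPow 1782 (invStep (W2, W2i).1 (W2, W2i).2 1782) 11 0 = true := by decide +kernel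
theorem inv_W2 : allBelow 11 1782 (invStep (W2, W2i).1 (W2, W2i).2 1782) = true :=
  allBelow_of_upto (hi := 2048)
    ((Upto.of_pow inv_W2_c0 (Nat.le_refl _)) : Upto _ _ 0 (0 + 2 ^ 11))
    (by decide) (by decide)

variable {G : Type*} [Group G] {ψ : G →* Equiv.Perm (Fin 1782)}

theorem seeds_real {H : Subgroup G}
    (h0 : Real ψ H [] (T1, T1))
    (h1 : Real ψ H [] (T2, T2))
    (h2 : Real ψ H [] (T3, T3))
    (h3 : Real ψ H [] (T4, T4))
    (h4 : Real ψ H [] (T5, T5))
    (h5 : Real ψ H [] (T6, T6))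
    (h6 : Real ψ H [] (T7, T7))
    : Real ψ H [] (U, Ui) ∧ Real ψ H [] (S, Si) ∧ Real ψ H [] (W, Wi) ∧ Real ψ H [] (W2, W2i) := by
  have h_A7 : Real ψ H [] (A7, A7) := by
    refine Real.new (prev := []) (ps := [(T1, T1)]) ?_ eq_A7 inv_A7 rfl
    simp only [List.forall_mem_cons, List.not_mem_nil, false_implies, implies_true, and_true]
    exact h0
  have h_A8 : Real ψ H [] (A8, A8) := by
    refine Real.new (prev := []) (ps := [(T2, T2)]) ?_ eq_A8 inv_A8 rfl
    simp only [List.forall_mem_cons, List.not_mem_nil, false_implies, implies_true, and_true]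
    exact h1
  have h_A9 : Real ψ H [] (A9, A9) := by
    refine Real.new (prev := []) (ps := [(T3, T3)]) ?_ eq_A9 inv_A9 rfl
    simp only [List.forall_mem_cons, List.not_mem_nil, false_implies, implies_true, and_true]
    exact h2
  have h_A10 : Real ψ H [] (A10, A10) := by
    refine Real.new (prev := []) (ps := [(T4, T4)]) ?_ eq_A10 inv_A10 rfl
    simp only [List.forall_mem_cons, List.not_mem_nil, false_implies, implies_true, and_true]
    exact h3
  have h_A11 : Real ψ H [] (A11, A12) := by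
    refine Real.new (prev := []) (ps := [(T5, T5), (A9, A9), (A10, A10), (A9, A9)]) ?_ eq_A11 inv_A11 rfl
    simp only [List.forall_mem_cons, List.not_mem_nil, false_implies, implies_true, and_true]
    exact ⟨h4, h_A9, h_A10, h_A9⟩
  have h_A13 : Real ψ H [] (A13, A13) := by
    refine Real.new (prev := []) (ps := [(T6, T6)]) ?_ eq_A13 inv_A13 rfl
    simp only [List.forall_mem_cons, List.not_mem_nil, false_implies, implies_true, and_true]
    exact h5
  have h_A14 : Real ψ H [] (A14, A14) := by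
    refine Real.new (prev := []) (ps := [(T2, T2), (T6, T6), (T1, T1), (T7, T7), (T4, T4), (T7, T7), (A7, A7), (A8, A8)]) ?_ eq_A14 inv_A14 rfl
    simp only [List.forall_mem_cons, List.not_mem_nil, false_implies, implies_true, and_true]
    exact ⟨h1, h5, h0, h6, h3, h6, h_A7, h_A8⟩
  have h_A15 : Real ψ H [] (A15, A16) := by
    refine Real.new (prev := []) (ps := [(T6, T6), (T1, T1), (T5, T5), (T2, T2), (T7, T7), (T4, T4), (T7, T7), (A10, A10), (A9, A9), (A8, A8), (A13, A13), (A7, A7), (A12, A11), (A14, A14), (A12, A11), (A14, A14), (A11, A12), (A14, A14), (A12, A11)]) ?_ eq_A15 inv_A15 rfl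
    simp only [List.forall_mem_cons, List.not_mem_nil, false_implies, implies_true, and_true]
    exact ⟨h5, h0, h4, h1, h6, h3, h6, h_A10, h_A9, h_A8, h_A13, h_A7, h_A11.symm, h_A14, h_A11.symm, h_A14, h_A11, h_A14, h_A11.symm⟩
  have h_A17 : Real ψ H [] (A17, A18) := by
    refine Real.new (prev := []) (ps := [(T5, T5), (T1, T1), (T6, T6), (T7, T7), (T7, T7), (A8, A8), (A15, A16), (A8, A8)]) ?_ eq_A17 inv_A17 rfl
    simp only [List.forall_mem_cons, List.not_mem_nil, false_implies, implies_true, and_true]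
    exact ⟨h4, h0, h5, h6, h6, h_A8, h_A15, h_A8⟩
  have h_A19 : Real ψ H [] (A19, A19) := by
    refine Real.new (prev := []) (ps := [(T3, T3), (T5, T5), (T5, T5), (T7, T7), (T7, T7), (T6, T6), (T4, T4), (T3, T3), (A13, A13), (A15, A16), (A10, A10), (A7, A7), (A17, A18), (A16, A15), (A11, A12)]) ?_ eq_A19 inv_A19 rfl
    simp only [List.forall_mem_cons, List.not_mem_nil, false_implies, implies_true, and_true]
    exact ⟨h2, h4, h4, h6, h6, h5, h3, h2, h_A13, h_A15, h_A10, h_A7, h_A17, h_A15.symm, h_A11⟩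
  have h_A20 : Real ψ H [] (A20, A21) := by
    refine Real.new (prev := []) (ps := [(T3, T3), (T6, T6), (A19, A19), (A7, A7), (A18, A17), (A18, A17), (A16, A15), (A11, A12)]) ?_ eq_A20 inv_A20 rfl
    simp only [List.forall_mem_cons, List.not_mem_nil, false_implies, implies_true, and_true]
    exact ⟨h2, h5, h_A19, h_A7, h_A17.symm, h_A17.symm, h_A15.symm, h_A11⟩
  have h_U : Real ψ H [] (U, Ui) := by
    refine Real.new (prev := []) (ps := [(A15, A16), (A20, A21), (A15, A16), (A14, A14), (A11, A12), (A14, A14), (A17, A18), (A8, A8), (A9, A9), (A20, A21), (A11, A12)]) ?_ eq_U inv_U rfl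
    simp only [List.forall_mem_cons, List.not_mem_nil, false_implies, implies_true, and_true]
    exact ⟨h_A15, h_A20, h_A15, h_A14, h_A11, h_A14, h_A17, h_A8, h_A9, h_A20, h_A11⟩
  have h_S : Real ψ H [] (S, Si) := by
    refine Real.new (prev := []) (ps := [(A19, A19), (A21, A20), (A16, A15), (A21, A20), (A11, A12), (A15, A16), (A14, A14), (A18, A17), (A15, A16)]) ?_ eq_S inv_S rfl
    simp only [List.forall_mem_cons, List.not_mem_nil, false_implies, implies_true, and_true]
    exact ⟨h_A19, h_A20.symm, h_A15.symm, h_A20.symm, h_A11, h_A15, h_A14, h_A17.symm, h_A15⟩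
  have h_W : Real ψ H [] (W, Wi) := by
    refine Real.new (prev := []) (ps := [(A20, A21), (A15, A16), (A20, A21), (A11, A12), (A16, A15), (A18, A17), (A18, A17), (A8, A8), (A21, A20), (A19, A19), (T7, T7), (T2, T2), (A18, A17), (T2, T2), (A14, A14), (T7, T7)]) ?_ eq_W inv_W rfl
    simp only [List.forall_mem_cons, List.not_mem_nil, false_implies, implies_true, and_true]
    exact ⟨h_A20, h_A15, h_A20, h_A11, h_A15.symm, h_A17.symm, h_A17.symm, h_A8, h_A20.symm, h_A19, h6, h1, h_A17.symm, h1, h_A14, h6⟩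
  have h_W2 : Real ψ H [] (W2, W2i) := by
    refine Real.new (prev := []) (ps := [(A16, A15), (A20, A21), (A19, A19), (A20, A21), (A16, A15), (A18, A17), (A19, A19), (A17, A18), (A14, A14), (A8, A8), (A21, A20), (A19, A19), (T7, T7), (T2, T2), (A18, A17), (T2, T2), (A14, A14), (T7, T7)]) ?_ eq_W2 inv_W2 rfl
    simp only [List.forall_mem_cons, List.not_mem_nil, false_implies, implies_true, and_true]
    exact ⟨h_A15.symm, h_A20, h_A19, h_A20, h_A15.symm, h_A17.symm, h_A19, h_A17, h_A14, h_A8, h_A20.symm, h_A19, h6, h1, h_A17.symm, h1, h_A14, h6⟩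
  exact ⟨h_U, h_S, h_W, h_W2⟩

end CfsgLib.OutPresented.Suz
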